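import Mathlib
import Cfsg.Agent.H732.PU.Chain

/-!
# S5210: `Aut_S(V)` is TI when `Z < W < V` can be read off from every element of `S \ V`
-/

set_option autoImplicit false

namespace Cfsg.Agent.H771.U4

open Cfsg Cfsg.FusionSystem Cfsg.Agent.H756.PU Cfsg.Agent.H732.PU Cfsg.Agent.H802

variable {Ω : Type*} [Group Ω]

/-- the stabilizer of `Z` and `W` -/
def stb {V : Subgroup Ω} (Z W : Subgroup Ω) : Subgroup (MulAut V) where
  carrier := {g | (∀ e : V, ((g e : V) : Ω) ∈ Z ↔ (e : Ω) ∈ Z) ∧ (∀ e : V, ((g e : V) : Ω) ∈ W ↔ (e : Ω) ∈ W)}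
  one_mem' := ⟨fun _ => Iff.rfl, fun _ => Iff.rfl⟩
  mul_mem' := fun {a b} ha hb => ⟨fun e => (ha.1 (b e)).trans (hb.1 e), fun e => (ha.2 (b e)).trans (hb.2 e)⟩
  inv_mem' := fun {a} ha => ⟨fun e => by
      have h := ha.1 (a⁻¹ e)
      rw [MulAut.apply_inv_self] at h
      exact h.symm, fun e => by
      have h := ha.2 (a⁻¹ e)
      rw [MulAut.apply_inv_self] at h
      exact h.symm⟩

theorem inv_stb_left {V Z W : Subgroup Ω} (h : Z ≤ V) : Inv (stb (V := V) Z W) Z :=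
  ⟨h, fun _ hg e he => (hg.1 e).mpr he⟩

theorem inv_stb_right {V Z W : Subgroup Ω} (h : W ≤ V) : Inv (stb (V := V) Z W) W :=
  ⟨h, fun _ hg e he => (hg.2 e).mpr he⟩

/-- **TI from a chain** -/
theorem ti_of_chain {S V Z W : Subgroup Ω} [Finite S] {p : ℕ} [Fact p.Prime] {Γ : Subgroup (MulAut V)}
    (hS : IsPGroup p S) (hVS : V ≤ S) (hVab : ∀ x ∈ V, ∀ y ∈ V, x * y = y * x) (hΓ : autInducedBy S V ≤ Γ)
    (hZW : Z ≤ W) (hWV : W ≤ V)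
    (hZ : ∀ s ∈ S, s ∈ Subgroup.normalizer (V : Set Ω) → s ∉ V → ∀ v ∈ V,
      (v ∈ Z ↔ (s * v * s⁻¹ = v ∧ ∃ w ∈ V, v = s * w * s⁻¹ * w⁻¹)))
    (hW : ∀ s ∈ S, s ∈ Subgroup.normalizer (V : Set Ω) → s ∉ V → ∀ v ∈ V,
      (v ∈ W ↔ ∃ c ∈ V, s * c * s⁻¹ = c ∧ ∃ w ∈ V, v = c * (s * w * s⁻¹ * w⁻¹)))
    (h1 : ∀ s ∈ S, s ∈ Subgroup.normalizer (V : Set Ω) → ∀ v ∈ V, s * v * s⁻¹ * v⁻¹ ∈ W)
    (h2 : ∀ s ∈ S, s ∈ Subgroup.normalizer (V : Set Ω) → ∀ v ∈ W, s * v * s⁻¹ * v⁻¹ ∈ Z)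
    (h3 : ∀ s ∈ S, s ∈ Subgroup.normalizer (V : Set Ω) → ∀ v ∈ Z, s * v * s⁻¹ = v)
    (hsyl : ∀ P : Subgroup (MulAut V), P ≤ Γ → IsPGroup p P → autInducedBy S V ≤ P → P ≤ autInducedBy S V) :
    TIAut S Γ := by
  have hZV : Z ≤ V := hZW.trans hWV
  have iE : Inv (stb (V := V) Z W) V := ⟨le_rfl, fun γ _ e _ => (γ e).2⟩
  have iW : Inv (stb (V := V) Z W) W := inv_stb_right hWV
  have iZ : Inv (stb (V := V) Z W) Z := inv_stb_left hZV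
  have i0 : Inv (stb (V := V) Z W) (⊥ : Subgroup Ω) := ⟨bot_le, fun γ _ e he => by
    have h1 : e = 1 := Subtype.ext (Subgroup.mem_bot.1 he)
    rw [h1, map_one]
    exact (⊥ : Subgroup Ω).one_mem⟩
  -- the stabilizer of the chain
  let K : Subgroup (MulAut V) :=
    { carrier := {γ | γ ∈ Γ ∧ γ ∈ stb (V := V) Z W ∧ Triv V W γ ∧ Triv W Z γ ∧ Triv Z ⊥ γ}
      one_mem' := ⟨Γ.one_mem, (stb Z W).one_mem, triv_one _ _, triv_one _ _, triv_one _ _⟩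
      mul_mem' := fun {a b} ha hb => ⟨Γ.mul_mem ha.1 hb.1, (stb Z W).mul_mem ha.2.1 hb.2.1, ha.2.2.1.mul hWV hb.2.2.1,
        ha.2.2.2.1.mul hZW hb.2.2.2.1, ha.2.2.2.2.mul bot_le hb.2.2.2.2⟩
      inv_mem' := fun {a} ha => ⟨Γ.inv_mem ha.1, (stb Z W).inv_mem ha.2.1, ha.2.2.1.inv iE ha.2.1,
        ha.2.2.2.1.inv iW ha.2.1, ha.2.2.2.2.inv iZ ha.2.1⟩ }
  have hpow : ∀ {M : Subgroup Ω}, M ≤ V → ∃ k, Nat.card M = p ^ k := by
    intro M hM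
    have hMS : M ≤ S := hM.trans hVS
    have hfin : Finite M := Finite.of_injective _ (Subgroup.inclusion_injective hMS)
    exact (hS.of_injective _ (Subgroup.inclusion_injective hMS)).exists_card_eq
  have hKp : IsPGroup p K := by
    rintro ⟨γ, hγ⟩
    obtain ⟨k1, hk1⟩ := hpow hZV
    obtain ⟨k2, hk2⟩ := hpow hWV
    have f1 : Fx Z γ := fun e he => by
      have := Subgroup.mem_bot.1 (hγ.2.2.2.2 e he)
      exact Subtype.ext (mul_inv_eq_one.1 this)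
    have f2 : Fx W (γ ^ Nat.card Z) := fx_step f1 hγ.2.2.2.1
    have g2 : γ ^ Nat.card Z ∈ K := K.pow_mem hγ _
    have f3 : Fx V ((γ ^ Nat.card Z) ^ Nat.card W) := fx_step f2 g2.2.2.1
    refine ⟨k1 + k2, Subtype.ext ?_⟩
    have h1 : γ ^ p ^ (k1 + k2) = (γ ^ Nat.card Z) ^ Nat.card W := by
      rw [← pow_mul, hk1, hk2, pow_add]
    change γ ^ p ^ (k1 + k2) = 1
    rw [h1]
    exact MulEquiv.ext fun e => f3 e e.2
  have hSK : autInducedBy S V ≤ K := by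
    intro α hα
    obtain ⟨s, hs, hα'⟩ := (mem_autInducedBy_iff S V α).1 hα
    have hn := mem_normalizer_of_aut hα'
    have hα'' : α⁻¹ ∈ autInducedBy S V := inv_mem hα
    obtain ⟨t, ht, hβ⟩ := (mem_autInducedBy_iff S V α⁻¹).1 hα''
    have hnt := mem_normalizer_of_aut hβ
    have key : ∀ (s : Ω) (β : MulAut V), s ∈ S → (∀ x : V, ((β x : V) : Ω) = s * (x : Ω) * s⁻¹) →
        (∀ e : V, (e : Ω) ∈ Z → ((β e : V) : Ω) ∈ Z) ∧ (∀ e : V, (e : Ω) ∈ W → ((β e : V) : Ω) ∈ W) := by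
      intro s β hs hβ
      have hn := mem_normalizer_of_aut hβ
      refine ⟨fun e he => ?_, fun e he => ?_⟩
      · rw [hβ, h3 s hs hn _ he]
        exact he
      · rw [hβ]
        have h4 := mul_mem (hZW (h2 s hs hn _ he)) he
        rwa [inv_mul_cancel_right] at h4
    have k1 := key s α hs hα'
    have k2 := key t α⁻¹ ht hβ
    refine ⟨hΓ hα, ⟨fun e => ⟨fun h => ?_, k1.1 e⟩, fun e => ⟨fun h => ?_, k1.2 e⟩⟩, fun e _ => ?_, fun e he => ?_,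
      fun e he => ?_⟩
    · have h4 := k2.1 _ h
      rwa [MulAut.inv_apply_self] at h4
    · have h4 := k2.2 _ h
      rwa [MulAut.inv_apply_self] at h4
    · rw [hα']
      exact h1 s hs hn _ e.2
    · rw [hα']
      exact h2 s hs hn _ he
    · rw [hα', h3 s hs hn _ he, mul_inv_cancel]
      exact one_mem _
  have hKS : K ≤ autInducedBy S V := hsyl K (fun _ h => h.1) hKp hSK
  intro γ hγ x hx hxI hy
  obtain ⟨s, hs, hxs⟩ := (mem_autInducedBy_iff S V x).1 hx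
  obtain ⟨t, ht, hyt⟩ := (mem_autInducedBy_iff S V _).1 hy
  have hsn := mem_normalizer_of_aut hxs
  have htn := mem_normalizer_of_aut hyt
  have hone : ∀ (s : Ω) (β : MulAut V), s ∈ V → (∀ x : V, ((β x : V) : Ω) = s * (x : Ω) * s⁻¹) → β = 1 := by
    intro s β hs hβ
    refine MulEquiv.ext fun e => Subtype.ext ?_
    rw [hβ, hVab s hs e e.2, mul_inv_cancel_right]
    rfl
  have hx1 : x ≠ 1 := fun h => hxI (h ▸ one_mem _)
  have hsV : s ∉ V := fun h => hx1 (hone s x h hxs)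
  have hy1 : γ * x * γ⁻¹ ≠ 1 := fun h => hx1 (by
    have h4 : x = γ⁻¹ * (γ * x * γ⁻¹) * γ := by group
    rw [h4, h]
    group)
  have htV : t ∉ V := fun h => hy1 (hone t _ h hyt)
  -- transport
  have hyx : ∀ e : V, (γ * x * γ⁻¹) (γ e) = γ (x e) := by
    intro e
    rw [MulAut.mul_apply, MulAut.mul_apply, MulAut.inv_apply_self]
  have fxs : ∀ e : V, (s * (e : Ω) * s⁻¹ = e ↔ x e = e) := fun e => by
    rw [← hxs e]
    exact Subtype.coe_inj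
  have fyt : ∀ e : V, (t * (e : Ω) * t⁻¹ = e ↔ (γ * x * γ⁻¹) e = e) := fun e => by
    rw [← hyt e]
    exact Subtype.coe_inj
  have cxs : ∀ e w : V, ((e : Ω) = s * (w : Ω) * s⁻¹ * (w : Ω)⁻¹ ↔ e = x w * w⁻¹) := fun e w => by
    rw [← hxs w]
    exact ⟨fun h => Subtype.ext h, fun h => congrArg Subtype.val h⟩
  have cyt : ∀ e w : V, ((e : Ω) = t * (w : Ω) * t⁻¹ * (w : Ω)⁻¹ ↔ e = (γ * x * γ⁻¹) w * w⁻¹) := fun e w => by
    rw [← hyt w]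
    exact ⟨fun h => Subtype.ext h, fun h => congrArg Subtype.val h⟩
  have hγs : γ ∈ stb (V := V) Z W := by
    constructor
    · intro e
      rw [hZ s hs hsn hsV e e.2, hZ t ht htn htV _ (γ e).2, fxs, fyt, hyx]
      refine and_congr ⟨fun h => γ.injective h, fun h => by rw [h]⟩ ⟨?_, ?_⟩
      · rintro ⟨w, hw, h⟩
        have h4 := (cyt (γ e) ⟨w, hw⟩).mp h
        refine ⟨((γ⁻¹ ⟨w, hw⟩ : V) : Ω), (γ⁻¹ ⟨w, hw⟩).2, (cxs _ _).mpr ?_⟩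
        apply γ.injective
        rw [h4, map_mul, map_inv, ← hyx, MulAut.apply_inv_self]
      · rintro ⟨w, hw, h⟩
        have h4 := (cxs e ⟨w, hw⟩).mp h
        refine ⟨((γ ⟨w, hw⟩ : V) : Ω), (γ ⟨w, hw⟩).2, (cyt _ _).mpr ?_⟩
        rw [h4, map_mul, map_inv, ← hyx]
    · intro e
      rw [hW s hs hsn hsV e e.2, hW t ht htn htV _ (γ e).2]
      constructor
      · rintro ⟨c, hc, hc1, w, hw, h⟩
        refine ⟨((γ⁻¹ ⟨c, hc⟩ : V) : Ω), (γ⁻¹ ⟨c, hc⟩).2, (fxs _).mpr ?_, ((γ⁻¹ ⟨w, hw⟩ : V) : Ω), (γ⁻¹ ⟨w, hw⟩).2, ?_⟩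
        · apply γ.injective
          rw [← hyx, MulAut.apply_inv_self]
          exact (fyt ⟨c, hc⟩).mp hc1
        · have h5 : γ e = ⟨c, hc⟩ * ((γ * x * γ⁻¹) ⟨w, hw⟩ * ⟨w, hw⟩⁻¹) := by
            apply Subtype.ext
            rw [h]
            show _ = c * (((γ * x * γ⁻¹) ⟨w, hw⟩ : V) * w⁻¹)
            rw [hyt ⟨w, hw⟩]
          have h6 : e = γ⁻¹ ⟨c, hc⟩ * (x (γ⁻¹ ⟨w, hw⟩) * (γ⁻¹ ⟨w, hw⟩)⁻¹) := by
            apply γ.injective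
            rw [h5, map_mul, map_mul, map_inv, ← hyx, MulAut.apply_inv_self, MulAut.apply_inv_self]
          rw [← hxs]
          exact congrArg Subtype.val h6
      · rintro ⟨c, hc, hc1, w, hw, h⟩
        refine ⟨((γ ⟨c, hc⟩ : V) : Ω), (γ ⟨c, hc⟩).2, (fyt _).mpr ?_, ((γ ⟨w, hw⟩ : V) : Ω), (γ ⟨w, hw⟩).2, ?_⟩
        · rw [hyx]
          exact congrArg γ ((fxs ⟨c, hc⟩).mp hc1)
        · have h5 : e = ⟨c, hc⟩ * (x ⟨w, hw⟩ * ⟨w, hw⟩⁻¹) := by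
            apply Subtype.ext
            rw [h]
            show _ = c * ((x ⟨w, hw⟩ : V) * w⁻¹)
            rw [hxs ⟨w, hw⟩]
          rw [← hyt, hyx]
          have h6 : γ e = γ ⟨c, hc⟩ * (γ (x ⟨w, hw⟩) * (γ ⟨w, hw⟩)⁻¹) := by
            rw [h5, map_mul, map_mul, map_inv]
          exact congrArg Subtype.val h6
  intro z hz
  apply hKS
  have hzK := hSK hz
  exact ⟨Γ.mul_mem (Γ.mul_mem hγ hzK.1) (Γ.inv_mem hγ),
    (stb Z W).mul_mem ((stb Z W).mul_mem hγs hzK.2.1) ((stb Z W).inv_mem hγs),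
    hzK.2.2.1.conj iE iW hγs, hzK.2.2.2.1.conj iW iZ hγs, hzK.2.2.2.2.conj iZ i0 hγs⟩

end Cfsg.Agent.H771.U4
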